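import Mathlib.CategoryTheory.Abelian.RightDerived
import Mathlib.Algebra.Homology.HomologySequence
import Mathlib.Algebra.Homology.HomologicalComplexAbelian

/-!
Right derived functors of the kernel of a natural map `𝟭 ⟶ G` that is epi on injectives.
-/

universe v u

open CategoryTheory CategoryTheory.Limits

namespace Groth.Agent.EtDual93

variable {A : Type u} [Category.{v} A] [Abelian A]

theorem toRightDerivedZero'_natTrans {X : A} (P : InjectiveResolution X) {F G : A ⥤ A}
    [F.Additive] [G.Additive] (α : F ⟶ G) :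
    α.app X ≫ P.toRightDerivedZero' G =
      P.toRightDerivedZero' F ≫ HomologicalComplex.cyclesMap
        ((NatTrans.mapHomologicalComplex α _).app P.cocomplex) 0 := by
  rw [← cancel_mono (HomologicalComplex.iCycles _ _), Category.assoc, Category.assoc,
    InjectiveResolution.toRightDerivedZero'_comp_iCycles, HomologicalComplex.cyclesMap_i,
    InjectiveResolution.toRightDerivedZero'_comp_iCycles_assoc]
  exact (α.naturality _).symm

variable [EnoughInjectives A]

theorem isIso_toRightDerivedZero' {X : A} (P : InjectiveResolution X) (F : A ⥤ A) [F.Additive]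
    [PreservesFiniteLimits F] : IsIso (P.toRightDerivedZero' F) := by
  have h : IsIso (F.toRightDerivedZero.app X) := inferInstance
  rw [P.toRightDerivedZero_eq F] at h
  exact IsIso.of_isIso_comp_right _
    ((CochainComplex.isoHomologyπ₀ _) ≪≫ (P.isoRightDerivedObj F 0).symm).hom

theorem exists_connecting (Γ G : A ⥤ A) [Γ.Additive] [G.Additive] [PreservesFiniteLimits G]
    (ι : Γ ⟶ 𝟭 A) (η : 𝟭 A ⟶ G) (w : ∀ Z, ι.app Z ≫ η.app Z = 0)
    (h : ∀ I : A, Injective I → (ShortComplex.mk (ι.app I) (η.app I) (w I)).ShortExact) (X : A) :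
    Nonempty (cokernel (η.app X) ≅ (Γ.rightDerived 1).obj X) ∧
      ∀ p : ℕ, 1 ≤ p → Nonempty ((G.rightDerived p).obj X ≅ (Γ.rightDerived (p + 1)).obj X) := by
  let P := injectiveResolution X
  let T : ShortComplex (CochainComplex A ℕ) :=
    ShortComplex.mk ((NatTrans.mapHomologicalComplex ι _).app P.cocomplex)
      ((NatTrans.mapHomologicalComplex η _).app P.cocomplex)
      (HomologicalComplex.hom_ext _ _ fun n => w (P.cocomplex.X n))
  have hT : T.ShortExact :=
    HomologicalComplex.shortExact_of_degreewise_shortExact _ fun n => h _ (P.injective n)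
  let e : ((𝟭 A).mapHomologicalComplex (ComplexShape.up ℕ)).obj P.cocomplex ≅ P.cocomplex :=
    HomologicalComplex.Hom.isoOfComponents (fun n => Iso.refl _)
      (fun i j _ => (Category.id_comp _).trans (Category.comp_id _).symm)
  have hz : ∀ n, IsZero (T.X₂.homology (n + 1)) := fun n =>
    ((P.cocomplex_exactAt_succ n).isZero_homology).of_iso
      ((HomologicalComplex.homologyFunctor A _ (n + 1)).mapIso e)
  refine ⟨?_, fun p hp => ?_⟩
  · have : IsIso (P.toRightDerivedZero' (𝟭 A)) := isIso_toRightDerivedZero' P _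
    have : IsIso (P.toRightDerivedZero' G) := isIso_toRightDerivedZero' P _
    have hx := hT.homology_exact₃ 0 1 rfl
    have he : Epi (hT.δ 0 1 rfl) := hT.epi_δ 0 1 rfl (hz 0)
    let a : X ≅ T.X₂.homology 0 :=
      asIso (P.toRightDerivedZero' (𝟭 A)) ≪≫ CochainComplex.isoHomologyπ₀ _
    let b : G.obj X ≅ T.X₃.homology 0 :=
      asIso (P.toRightDerivedZero' G) ≪≫ CochainComplex.isoHomologyπ₀ _
    have hsq : η.app X ≫ b.hom = a.hom ≫ HomologicalComplex.homologyMap T.g 0 := by
      simp only [a, b, Iso.trans_hom, asIso_hom, Category.assoc]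
      rw [reassoc_of% (toRightDerivedZero'_natTrans P η)]
      exact congrArg (P.toRightDerivedZero' (𝟭 A) ≫ ·)
        (HomologicalComplex.homologyπ_naturality T.g 0).symm
    exact ⟨cokernel.mapIso _ _ a b hsq ≪≫
      IsColimit.coconePointUniqueUpToIso (colimit.isColimit _) hx.gIsCokernel ≪≫
      (P.isoRightDerivedObj Γ 1).symm⟩
  · obtain ⟨p, rfl⟩ : ∃ q, p = q + 1 := ⟨p - 1, by omega⟩
    exact ⟨P.isoRightDerivedObj G (p + 1) ≪≫
      hT.δIso (p + 1) (p + 1 + 1) rfl (hz p) (hz (p + 1)) ≪≫ (P.isoRightDerivedObj Γ (p + 1 + 1)).symm⟩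

end Groth.Agent.EtDual93
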