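import Groth.Agent.EtDual93.Connect
import Groth.Agent.EtCore45.OpenRestrict
import Groth.Agent.LocCohZ46.Derived
import Groth.Prelude.Def_EtDual

/-!
Local cohomology sheaves and higher direct images of the open complement.
-/

set_option autoImplicit false
set_option backward.isDefEq.respectTransparency.types false
universe u

open CategoryTheory CategoryTheory.Limits AlgebraicGeometry Opposite

namespace Groth.Agent.EtDual93

variable {X U : Scheme.{u}} (j : U ⟶ X) [IsOpenImmersion j]

theorem epi_unitApp_of_injective (I : EtCoh.Ab X) [Injective I] : Epi (EtDual.unitApp j I) := by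
  let m := (EtCoh.push j).map ((EtCore45.pullRestrIso j).hom.app I)
  have e : EtDual.unitApp j I ≫ m = (EtCore45.restrPushAdj j).unit.app I :=
    Adjunction.unit_leftAdjointUniq_hom_app _ _ I
  have hs : Epi ((EtCore45.restrPushAdj j).unit.app I) := by
    have : Epi ((EtCore45.restrPushAdj j).unit.app I).hom := by
      have : ∀ V, Epi (((EtCore45.restrPushAdj j).unit.app I).hom.app V) := fun V => by
        rw [AddCommGrpCat.epi_iff_surjective]
        have : IsOpenImmersion ((EtCore45.compBcAdj j).counit.app V.unop).left := by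
          change IsOpenImmersion (pullback.fst V.unop.hom j)
          infer_instance
        exact EtCore45.surjective_restrict_injective I ((EtCore45.compBcAdj j).counit.app V.unop)
      exact NatTrans.epi_of_epi_app _
    exact (sheafToPresheaf X.smallEtaleTopology AddCommGrpCat.{u + 1}).epi_of_epi_map this
  have : EtDual.unitApp j I = (EtCore45.restrPushAdj j).unit.app I ≫ inv m := by
    rw [← e, Category.assoc, IsIso.hom_inv_id, Category.comp_id]
  rw [this]
  exact epi_comp _ _

theorem exists_locCoh_iso (F : EtCoh.Ab X) :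
    Nonempty (cokernel (EtDual.unitApp j F) ≅ (EtDual.locCoh j 1).obj F) ∧
      ∀ p : ℕ, 1 ≤ p →
        Nonempty ((EtCoh.Rpush j p).obj ((EtCoh.pull j).obj F) ≅ (EtDual.locCoh j (p + 1)).obj F) := by
  have hfl := Unr55.EtSh.preservesFiniteLimits_pull j
  have : PreservesLimitsOfSize.{0, 0} (EtCoh.push j) := (EtCoh.pullPushAdj j).rightAdjoint_preservesLimits
  have : PreservesFiniteLimits (EtCoh.push j) := PreservesLimitsOfSize.preservesFiniteLimits _
  have : PreservesFiniteLimits (EtCoh.pull j ⋙ EtCoh.push j) := comp_preservesFiniteLimits _ _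
  let ι : EtDual.secSupp j ⟶ 𝟭 (EtCoh.Ab X) :=
    { app := fun Z => kernel.ι (EtDual.unitApp j Z)
      naturality := fun Y Z f => kernel.lift_ι _ _ _ }
  obtain ⟨h1, hp⟩ := exists_connecting (EtDual.secSupp j) (EtCoh.pull j ⋙ EtCoh.push j) ι
    (EtCoh.pullPushAdj j).unit (fun Z => kernel.condition _) (fun I hI =>
      { exact := ShortComplex.exact_of_f_is_kernel _ (kernelIsKernel _)
        mono_f := inferInstanceAs (Mono (kernel.ι (EtDual.unitApp j I)))
        epi_g := epi_unitApp_of_injective j I }) F
  refine ⟨h1, fun p hp1 => ?_⟩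
  obtain ⟨e⟩ := hp p hp1
  exact ⟨((LocCohZ46.rightDerivedPreExactIso (EtCoh.pull j)
    (fun I hI => EtCore45.injective_pull j I) (EtCoh.push j) p).app F).symm ≪≫ e⟩

end Groth.Agent.EtDual93
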