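import Groth.Agent.EtCore45.Recoll
import Groth.Agent.CohDer42.DerQuot
import Groth.Agent.DerAdj43.Basic
import Groth.Agent.Mod48.ExactDerived
import Groth.Prelude.Def_DCoh2
import Mathlib.CategoryTheory.Localization.Adjunction

/-!
Derived category of sheaves supported on a closed subscheme.
-/

set_option autoImplicit false
set_option backward.isDefEq.respectTransparency.types false
universe w w' v v' u u'

open CategoryTheory CategoryTheory.Limits CategoryTheory.Pretriangulated AlgebraicGeometry
open Groth.Agent.Unr55.EtSh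

namespace Groth.Agent.EtDual93

section General

variable {A : Type u} [Category.{v} A] [Abelian A] [HasDerivedCategory.{w} A]
  {B : Type u'} [Category.{v'} B] [Abelian B] [HasDerivedCategory.{w'} B]
  {L : A ⥤ B} {R : B ⥤ A} (adj : L ⊣ R) [L.Additive] [PreservesFiniteLimits L] [PreservesFiniteColimits L]
  [R.Additive] [PreservesFiniteLimits R] [PreservesFiniteColimits R]

/-- The adjunction of derived categories of an adjunction of exact functors. -/
noncomputable def derAdj : L.mapDerivedCategory ⊣ R.mapDerivedCategory :=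
  letI : CatCommSq (L.mapHomologicalComplex (ComplexShape.up ℤ)) DerivedCategory.Q DerivedCategory.Q
      L.mapDerivedCategory := ⟨L.mapDerivedCategoryFactors.symm⟩
  letI : CatCommSq (R.mapHomologicalComplex (ComplexShape.up ℤ)) DerivedCategory.Q DerivedCategory.Q
      R.mapDerivedCategory := ⟨R.mapDerivedCategoryFactors.symm⟩
  (DerAdj43.complexAdj adj (ComplexShape.up ℤ)).localization DerivedCategory.Q
    (HomologicalComplex.quasiIso A _) DerivedCategory.Q (HomologicalComplex.quasiIso B _)
    L.mapDerivedCategory R.mapDerivedCategory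

theorem isIso_derAdj_counit (h : ∀ Y, IsIso (adj.counit.app Y)) (Y : DerivedCategory B) :
    IsIso ((derAdj adj).counit.app Y) := by
  have hQ : ∀ M : CochainComplex B ℤ, IsIso ((derAdj adj).counit.app (DerivedCategory.Q.obj M)) := fun M => by
    have : IsIso ((DerAdj43.complexAdj adj (ComplexShape.up ℤ)).counit.app M) :=
      have : ∀ i, IsIso (((DerAdj43.complexAdj adj (ComplexShape.up ℤ)).counit.app M).f i) := fun i => h _
      HomologicalComplex.Hom.isIso_of_components _
    letI : CatCommSq (L.mapHomologicalComplex (ComplexShape.up ℤ)) DerivedCategory.Q DerivedCategory.Q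
        L.mapDerivedCategory := ⟨L.mapDerivedCategoryFactors.symm⟩
    letI : CatCommSq (R.mapHomologicalComplex (ComplexShape.up ℤ)) DerivedCategory.Q DerivedCategory.Q
        R.mapDerivedCategory := ⟨R.mapDerivedCategoryFactors.symm⟩
    unfold derAdj
    rw [Adjunction.localization_counit_app]
    infer_instance
  have := hQ (DerivedCategory.Q.objPreimage Y)
  exact (NatTrans.isIso_app_iff_of_iso (derAdj adj).counit (DerivedCategory.Q.objObjPreimageIso Y)).1 this

theorem mapDerivedCategory_full_faithful (h : ∀ Y, IsIso (adj.counit.app Y)) :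
    R.mapDerivedCategory.Full ∧ R.mapDerivedCategory.Faithful := by
  have : ∀ Y, IsIso ((derAdj adj).counit.app Y) := isIso_derAdj_counit adj h
  have : IsIso (derAdj adj).counit := NatIso.isIso_of_isIso_app _
  exact ⟨(derAdj adj).fullyFaithfulROfIsIsoCounit.full, (derAdj adj).fullyFaithfulROfIsIsoCounit.faithful⟩

theorem mem_essImage_of_kills {C : Type u'} [Category.{v'} C] [Abelian C] [HasDerivedCategory.{w'} C]
    (J : A ⥤ C) [J.Additive] [PreservesFiniteLimits J] [PreservesFiniteColimits J]
    (h : ∀ Y, IsIso (adj.counit.app Y)) (hJR : ∀ Y, IsZero (J.obj (R.obj Y)))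
    (hcons : ∀ X, IsZero (L.obj X) → IsZero (J.obj X) → IsZero X)
    (K : DerivedCategory A) (hK : ∀ n, IsZero (J.obj ((DerivedCategory.homologyFunctor A n).obj K))) :
    R.mapDerivedCategory.essImage K := by
  let f := (derAdj adj).unit.app K
  have := isIso_derAdj_counit adj h (L.mapDerivedCategory.obj K)
  have hLf : IsIso (L.mapDerivedCategory.map f) := by
    have e : IsIso (L.mapDerivedCategory.map f ≫ (derAdj adj).counit.app (L.mapDerivedCategory.obj K)) := by
      rw [(derAdj adj).left_triangle_components K]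
      exact IsIso.id _
    exact IsIso.of_isIso_comp_right _ ((derAdj adj).counit.app (L.mapDerivedCategory.obj K))
  obtain ⟨Z, g, δ, hT⟩ := distinguished_cocone_triangle f
  have hLZ : IsZero (L.mapDerivedCategory.obj Z) :=
    (Triangle.isZero₃_iff_isIso₁ _ (L.mapDerivedCategory.map_distinguished _ hT)).2 hLf
  have hJK : IsZero (J.mapDerivedCategory.obj K) := (CohDer42.DerQuot.isZero_obj_iff J K).2 hK
  have hJR' : IsZero (J.mapDerivedCategory.obj (R.mapDerivedCategory.obj (L.mapDerivedCategory.obj K))) :=
    (CohDer42.DerQuot.isZero_obj_iff J _).2 fun n => (hJR _).of_iso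
      (J.mapIso (Mod48.nonempty_homology_mapDerivedCategory R (L.mapDerivedCategory.obj K) n).some)
  have hJZ : IsZero (J.mapDerivedCategory.obj Z) :=
    (Triangle.isZero₃_iff_isIso₁ _ (J.mapDerivedCategory.map_distinguished _ hT)).2
      ⟨0, hJK.eq_of_src _ _, hJR'.eq_of_src _ _⟩
  have hZ : IsZero Z := Mod48.isZero_of_isZero_homology fun n => hcons _
    ((CohDer42.DerQuot.isZero_obj_iff L Z).1 hLZ n) ((CohDer42.DerQuot.isZero_obj_iff J Z).1 hJZ n)
  have : IsIso f := (Triangle.isZero₃_iff_isIso₁ _ hT).1 hZ
  exact ⟨L.mapDerivedCategory.obj K, ⟨(asIso f).symm⟩⟩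

end General

section Etale

universe t

variable {Z X U : Scheme.{t}} (i : Z ⟶ X) [IsClosedImmersion i] (j : U ⟶ X) [IsOpenImmersion j]

attribute [local instance] HasDerivedCategory.standard

theorem supported_equiv (hZU : Set.range j = (Set.range i)ᶜ) [PreservesFiniteColimits (EtCoh.push i)] :
    ((EtCoh.push i).mapDerivedCategory.Full ∧ (EtCoh.push i).mapDerivedCategory.Faithful) ∧
      ∀ K : DCoh.DEt X,
        (EtCoh.push i).mapDerivedCategory.essImage K ↔
          ∀ n : ℤ, IsZero ((EtCoh.pull j).obj (DCoh.HDEt K n)) := by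
  have := preservesFiniteLimits_pull i
  have := preservesFiniteLimits_pull j
  have hc := isIso_counit_closed i
  refine ⟨mapDerivedCategory_full_faithful (EtCoh.pullPushAdj i) hc, fun K => ⟨?_, fun hK =>
    mem_essImage_of_kills (EtCoh.pullPushAdj i) (EtCoh.pull j) hc (EtCore45.isZero_pull_push i j hZU)
      (fun F hi hj => ?_) K hK⟩⟩
  · rintro ⟨Y, ⟨e⟩⟩ n
    exact (EtCore45.isZero_pull_push i j hZU _).of_iso ((EtCoh.pull j).mapIso
      ((DerivedCategory.homologyFunctor _ n).mapIso e.symm ≪≫
        (Mod48.nonempty_homology_mapDerivedCategory (EtCoh.push i) Y n).some))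
  · have : IsIso ((EtCoh.pull i).map (0 : F ⟶ F)) := ⟨0, hi.eq_of_src _ _, hi.eq_of_src _ _⟩
    have : IsIso ((EtCoh.pull j).map (0 : F ⟶ F)) := ⟨0, hj.eq_of_src _ _, hj.eq_of_src _ _⟩
    have := EtCore45.isIso_of_pulls i j hZU (0 : F ⟶ F)
    rw [IsZero.iff_id_eq_zero, ← cancel_epi (0 : F ⟶ F), comp_zero, zero_comp]

end Etale

end Groth.Agent.EtDual93
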